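import Cfsg.Prelude.Def_E6
set_option linter.all false

/-!
# The cubic form in 27 variables: monomials, polarisations, singular vectors

`cubicT` is a sum of 45 monomials (`cubicT_eq`). `Q x y` is the part of `cubicT (x + y)` quadratic in `x` and linear
in `y`, `tri x y z` the full polarisation. Both are invariant under every map that preserves `cubicT` as a function
(for `Q` the field must have an element other than `0` and `1`).

Two coordinates `a`, `b` (weights) are non-collinear, `nc a b`, if they occur together in a monomial; the third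
coordinate of that monomial is `th a b`, its sign is `sg a b`. `ip a b` is three times the inner product of the
weights: `4` if `a = b`, `-2` if `nc a b`, `1` otherwise.
-/

set_option autoImplicit false

namespace Cfsg.Agent.ChevalleyStructure.E6Form.Cubic

open Cfsg.Lie Finset

universe u

/-- The 45 monomials `(sign, a, b, c)` of the cubic form. -/
def mono : List (ℤ × I27 × I27 × I27) := [
  (1, (0, 0, 0), (0, 1, 1), (0, 2, 2)), (-1, (0, 0, 0), (0, 1, 2), (0, 2, 1)), (-1, (0, 0, 1), (0, 1, 0), (0, 2, 2)),
  (1, (0, 0, 1), (0, 1, 2), (0, 2, 0)), (1, (0, 0, 2), (0, 1, 0), (0, 2, 1)), (-1, (0, 0, 2), (0, 1, 1), (0, 2, 0)),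
  (1, (1, 0, 0), (1, 1, 1), (1, 2, 2)), (-1, (1, 0, 0), (1, 1, 2), (1, 2, 1)), (-1, (1, 0, 1), (1, 1, 0), (1, 2, 2)),
  (1, (1, 0, 1), (1, 1, 2), (1, 2, 0)), (1, (1, 0, 2), (1, 1, 0), (1, 2, 1)), (-1, (1, 0, 2), (1, 1, 1), (1, 2, 0)),
  (1, (2, 0, 0), (2, 1, 1), (2, 2, 2)), (-1, (2, 0, 0), (2, 1, 2), (2, 2, 1)), (-1, (2, 0, 1), (2, 1, 0), (2, 2, 2)),
  (1, (2, 0, 1), (2, 1, 2), (2, 2, 0)), (1, (2, 0, 2), (2, 1, 0), (2, 2, 1)), (-1, (2, 0, 2), (2, 1, 1), (2, 2, 0)),
  (-1, (0, 0, 0), (1, 0, 0), (2, 0, 0)), (-1, (0, 0, 0), (1, 0, 1), (2, 1, 0)), (-1, (0, 0, 0), (1, 0, 2), (2, 2, 0)),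
  (-1, (0, 0, 1), (1, 1, 0), (2, 0, 0)), (-1, (0, 0, 1), (1, 1, 1), (2, 1, 0)), (-1, (0, 0, 1), (1, 1, 2), (2, 2, 0)),
  (-1, (0, 0, 2), (1, 2, 0), (2, 0, 0)), (-1, (0, 0, 2), (1, 2, 1), (2, 1, 0)), (-1, (0, 0, 2), (1, 2, 2), (2, 2, 0)),
  (-1, (0, 1, 0), (1, 0, 0), (2, 0, 1)), (-1, (0, 1, 0), (1, 0, 1), (2, 1, 1)), (-1, (0, 1, 0), (1, 0, 2), (2, 2, 1)),
  (-1, (0, 1, 1), (1, 1, 0), (2, 0, 1)), (-1, (0, 1, 1), (1, 1, 1), (2, 1, 1)), (-1, (0, 1, 1), (1, 1, 2), (2, 2, 1)),
  (-1, (0, 1, 2), (1, 2, 0), (2, 0, 1)), (-1, (0, 1, 2), (1, 2, 1), (2, 1, 1)), (-1, (0, 1, 2), (1, 2, 2), (2, 2, 1)),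
  (-1, (0, 2, 0), (1, 0, 0), (2, 0, 2)), (-1, (0, 2, 0), (1, 0, 1), (2, 1, 2)), (-1, (0, 2, 0), (1, 0, 2), (2, 2, 2)),
  (-1, (0, 2, 1), (1, 1, 0), (2, 0, 2)), (-1, (0, 2, 1), (1, 1, 1), (2, 1, 2)), (-1, (0, 2, 1), (1, 1, 2), (2, 2, 2)),
  (-1, (0, 2, 2), (1, 2, 0), (2, 0, 2)), (-1, (0, 2, 2), (1, 2, 1), (2, 1, 2)), (-1, (0, 2, 2), (1, 2, 2), (2, 2, 2))]

/-- Two weights are non-collinear: they occur together in a monomial. -/
def nc (a b : I27) : Bool :=
  if a.1 = b.1 then !(decide (a.2.1 = b.2.1)) && !(decide (a.2.2 = b.2.2))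
  else if b.1 = a.1 + 1 then decide (a.2.2 = b.2.1) else decide (b.2.2 = a.2.1)

/-- The third weight of the monomial containing two non-collinear weights. -/
def th (a b : I27) : I27 :=
  if a.1 = b.1 then (a.1, -(a.2.1 + b.2.1), -(a.2.2 + b.2.2))
  else if b.1 = a.1 + 1 then (b.1 + 1, b.2.2, a.2.1) else (a.1 + 1, a.2.2, b.2.1)

/-- The sign of the monomial containing two non-collinear weights. -/
def sg (a b : I27) : ℤ :=
  if a.1 = b.1 then (if a.2.2 - a.2.1 = b.2.2 - b.2.1 then 1 else -1) else -1

/-- Three times the inner product of two weights. -/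
def ip (a b : I27) : ℤ := if a = b then 4 else if nc a b = true then -2 else 1

/-- All weights. -/
def wts : List I27 := (List.finRange 3).flatMap fun k => (List.finRange 3).flatMap fun i =>
  (List.finRange 3).map fun j => (k, i, j)

theorem mem_wts (a : I27) : a ∈ wts := by
  simp [wts]

theorem forall_wts {p : I27 → Bool} (h : wts.all p = true) (a : I27) : p a = true :=
  List.all_eq_true.1 h a (mem_wts a)

variable {F : Type u} [Field F]

/-- The value of a signed monomial on three vectors. -/
def term (m : ℤ × I27 × I27 × I27) (x y z : I27 → F) : F := (m.1 : F) * (x m.2.1 * y m.2.2.1 * z m.2.2.2)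

set_option maxRecDepth 20000 in
theorem cubicT_eq (v : I27 → F) : cubicT v = (mono.map fun m => term m v v v).sum := by
  simp only [mono, List.map_cons, List.map_nil, List.sum_cons, List.sum_nil, term, cubicT, mat3, Matrix.det_fin_three,
    Matrix.trace, Matrix.diag, Matrix.mul_apply, Fin.sum_univ_three, Matrix.of_apply, Int.cast_one, Int.cast_neg]
  ring


/-! ### Polarisations -/

/-- The part of `cubicT (x + y)` that is quadratic in `x` and linear in `y`. -/
def Q (x y : I27 → F) : F := (mono.map fun m => term m x x y + term m x y x + term m y x x).sum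

/-- The full polarisation of `cubicT`. -/
def tri (x y z : I27 → F) : F :=
  (mono.map fun m => term m x y z + term m x z y + term m y x z + term m y z x + term m z x y + term m z y x).sum

theorem cubicT_add_smul (x y : I27 → F) (s : F) :
    cubicT (x + s • y) = cubicT x + s * Q x y + s ^ 2 * Q y x + s ^ 3 * cubicT y := by
  rw [cubicT_eq, cubicT_eq, cubicT_eq, Q, Q]
  generalize mono = l
  induction l with
  | nil => simp
  | cons m l ih =>
    simp only [List.map_cons, List.sum_cons]
    rw [ih]
    simp only [term, Pi.add_apply, Pi.smul_apply, smul_eq_mul]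
    ring

theorem cubicT_add (x y : I27 → F) : cubicT (x + y) = cubicT x + Q x y + Q y x + cubicT y := by
  have := cubicT_add_smul x y 1
  rw [one_smul] at this
  rw [this]; ring

theorem Q_add_left (x y z : I27 → F) : Q (x + y) z = Q x z + Q y z + tri x y z := by
  rw [Q, Q, Q, tri]
  generalize mono = l
  induction l with
  | nil => simp
  | cons m l ih =>
    simp only [List.map_cons, List.sum_cons]
    rw [ih]
    simp only [term, Pi.add_apply]
    ring

theorem Q_smul_left (s : F) (x z : I27 → F) : Q (s • x) z = s ^ 2 * Q x z := by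
  rw [Q, Q]
  generalize mono = l
  induction l with
  | nil => simp
  | cons m l ih =>
    simp only [List.map_cons, List.sum_cons]
    rw [ih]
    simp only [term, Pi.smul_apply, smul_eq_mul]
    ring

theorem tri_smul_left (s : F) (x y z : I27 → F) : tri (s • x) y z = s * tri x y z := by
  rw [tri, tri]
  generalize mono = l
  induction l with
  | nil => simp
  | cons m l ih =>
    simp only [List.map_cons, List.sum_cons]
    rw [ih]
    simp only [term, Pi.smul_apply, smul_eq_mul]
    ring

theorem tri_comm12 (x y z : I27 → F) : tri x y z = tri y x z := by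
  rw [tri, tri]
  congr 1
  refine List.map_congr_left fun m _ => ?_
  ring

theorem tri_comm23 (x y z : I27 → F) : tri x y z = tri x z y := by
  rw [tri, tri]
  congr 1
  refine List.map_congr_left fun m _ => ?_
  ring

theorem tri_smul_mid (s : F) (x y z : I27 → F) : tri x (s • y) z = s * tri x y z := by
  rw [tri_comm12, tri_smul_left, tri_comm12]

/-! ### Invariance -/

/-- Full polarisation from the values of `cubicT`. -/
theorem tri_eq (x y z : I27 → F) :
    tri x y z = cubicT (x + y + z) - cubicT (x + y) - cubicT (x + z) - cubicT (y + z) + cubicT x + cubicT y +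
      cubicT z := by
  have h1 := cubicT_add (x + y) z
  have h2 := cubicT_add x z
  have h3 := cubicT_add y z
  have h4 := Q_add_left x y z
  have h5 : Q z (x + y) = Q z x + Q z y := by
    rw [Q, Q, Q]
    generalize mono = l
    induction l with
    | nil => simp
    | cons m l ih =>
      simp only [List.map_cons, List.sum_cons]
      rw [ih]
      simp only [term, Pi.add_apply]
      ring
  rw [h1, h2, h3, h4, h5]; ring

/-- An element of `E6univ` preserves `cubicT`. -/
theorem cubicT_mulVec {g : GL I27 F} (hg : g ∈ E6univ F) (v : I27 → F) :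
    cubicT ((g : Matrix I27 I27 F).mulVec v) = cubicT v := hg v

theorem tri_mulVec {g : GL I27 F} (hg : g ∈ E6univ F) (x y z : I27 → F) :
    tri ((g : Matrix I27 I27 F).mulVec x) ((g : Matrix I27 I27 F).mulVec y) ((g : Matrix I27 I27 F).mulVec z) =
      tri x y z := by
  simp only [tri_eq, ← Matrix.mulVec_add, cubicT_mulVec hg]

theorem Q_mulVec (hs : ∃ s : F, s ≠ 0 ∧ s ≠ 1) {g : GL I27 F} (hg : g ∈ E6univ F) (x y : I27 → F) :
    Q ((g : Matrix I27 I27 F).mulVec x) ((g : Matrix I27 I27 F).mulVec y) = Q x y := by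
  obtain ⟨s, hs0, hs1⟩ := hs
  have key : ∀ x y : I27 → F, (s - s ^ 2) * Q x y = cubicT (x + s • y) - cubicT x - s ^ 3 * cubicT y -
      s ^ 2 * (cubicT (x + y) - cubicT x - cubicT y) := by
    intro x y
    rw [cubicT_add_smul, cubicT_add]; ring
  have hne : s - s ^ 2 ≠ 0 := by
    have : s - s ^ 2 = s * (1 - s) := by ring
    rw [this]
    exact mul_ne_zero hs0 (sub_ne_zero.2 (Ne.symm hs1))
  apply mul_left_cancel₀ hne
  rw [key, key, ← Matrix.mulVec_smul, ← Matrix.mulVec_add, ← Matrix.mulVec_add]
  simp only [cubicT_mulVec hg]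

/-! ### Values on basis vectors -/

/-- The 270 ordered monomials. -/
def L6 : List (ℤ × I27 × I27 × I27) := mono.flatMap fun m =>
  [(m.1, m.2.1, m.2.2.1, m.2.2.2), (m.1, m.2.1, m.2.2.2, m.2.2.1), (m.1, m.2.2.1, m.2.1, m.2.2.2),
    (m.1, m.2.2.1, m.2.2.2, m.2.1), (m.1, m.2.2.2, m.2.1, m.2.2.1), (m.1, m.2.2.2, m.2.2.1, m.2.1)]

/-- The 135 monomials with a distinguished last factor. -/
def L3 : List (ℤ × I27 × I27 × I27) := mono.flatMap fun m =>
  [(m.1, m.2.1, m.2.2.1, m.2.2.2), (m.1, m.2.1, m.2.2.2, m.2.2.1), (m.1, m.2.2.1, m.2.2.2, m.2.1)]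

/-- The 270 ordered monomials, from `nc`, `th`, `sg`. -/
def R6 : List (ℤ × I27 × I27 × I27) := wts.flatMap fun a => (wts.filter fun b => nc a b).map fun b =>
  (sg a b, a, b, th a b)

theorem L6_perm : L6.Perm R6 := by decide +kernel

theorem tri_eq_L6 (x y z : I27 → F) : tri x y z = (L6.map fun t => term t x y z).sum := by
  rw [tri, L6]
  generalize mono = l
  induction l with
  | nil => simp
  | cons m l ih =>
    simp only [List.map_cons, List.sum_cons, List.flatMap_cons, List.map_append, List.sum_append, List.map_nil,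
      List.sum_nil]
    rw [ih]
    simp only [term]
    ring

theorem Q_eq_L3 (x y : I27 → F) : Q x y = (L3.map fun t => term t x x y).sum := by
  rw [Q, L3]
  generalize mono = l
  induction l with
  | nil => simp
  | cons m l ih =>
    simp only [List.map_cons, List.sum_cons, List.flatMap_cons, List.map_append, List.sum_append, List.map_nil,
      List.sum_nil]
    rw [ih]
    simp only [term]
    ring

theorem sum_wts (f : I27 → F) : (wts.map f).sum = ∑ a, f a := by
  simp only [wts, Fintype.sum_prod_type, Fin.sum_univ_three, List.finRange_succ, List.finRange_zero, List.map_nil,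
    List.map_cons, List.flatMap_cons, List.flatMap_nil, List.append_nil, List.map_append, List.sum_append,
    List.sum_cons, List.sum_nil, Fin.succ_zero_eq_one, Fin.succ_one_eq_two, add_zero]
  ring

theorem sum_filter_map {α : Type*} (l : List α) (p : α → Bool) (f : α → F) :
    ((l.filter p).map f).sum = (l.map fun a => if p a = true then f a else 0).sum := by
  induction l with
  | nil => simp
  | cons a l ih =>
    by_cases h : p a = true
    · simp [h, ih]
    · simp [h, ih]

theorem tri_formula (x y z : I27 → F) :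
    tri x y z = ∑ a, ∑ b, if nc a b = true then (sg a b : F) * (x a * y b * z (th a b)) else 0 := by
  rw [tri_eq_L6, (L6_perm.map _).sum_eq, R6, ← sum_wts]
  simp only [← sum_wts]
  have key : ∀ l l' : List I27, ((l.flatMap fun a => (l'.filter fun b => nc a b).map fun b =>
      (sg a b, a, b, th a b)).map fun t => term t x y z).sum =
      (l.map fun a => (l'.map fun b => if nc a b = true then (sg a b : F) * (x a * y b * z (th a b))
        else 0).sum).sum := by
    intro l l'
    induction l with
    | nil => simp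
    | cons a l ih =>
      simp only [List.flatMap_cons, List.map_append, List.sum_append, List.map_cons, List.sum_cons, List.map_map]
      rw [ih, ← sum_filter_map]
      rfl
  exact key wts wts

/-- The basis vector with index `a`. -/
def e (F : Type u) [Field F] (a : I27) : I27 → F := Pi.single a 1

theorem e_self (a : I27) : e F a a = 1 := by simp [e]

theorem e_ne {a b : I27} (h : b ≠ a) : e F a b = 0 := by simp [e, Pi.single_eq_of_ne h]

theorem tri_e_e (a b : I27) (z : I27 → F) :
    tri (e F a) (e F b) z = if nc a b = true then (sg a b : F) * z (th a b) else 0 := by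
  rw [tri_formula, Finset.sum_eq_single a, Finset.sum_eq_single b]
  · split
    · rw [e_self, e_self, one_mul, one_mul]
    · rfl
  · intro c _ hc
    rw [e_ne hc]; simp
  · intro h; exact absurd (Finset.mem_univ _) h
  · intro c _ hc
    refine Finset.sum_eq_zero fun d _ => ?_
    rw [e_ne hc]; simp
  · intro h; exact absurd (Finset.mem_univ _) h

/-- `nc` and `th` facts. -/
theorem th_facts (a b : I27) : (nc a b = true → nc b a = true ∧ nc a (th a b) = true ∧ th a (th a b) = b ∧
    th b a = th a b ∧ (sg a b = 1 ∨ sg a b = -1)) ∧ (nc a b = true → a ≠ b) := by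
  have h := forall_wts (p := fun a => wts.all fun b => !(nc a b) || (nc b a && nc a (th a b) && (th a (th a b) == b) &&
    (th b a == th a b) && ((sg a b == 1) || (sg a b == -1)) && !(a == b))) (by decide +kernel) a
  have h' := forall_wts h b
  simp only [Bool.or_eq_true, Bool.not_eq_true', Bool.and_eq_true, beq_iff_eq, beq_eq_false_iff_ne] at h'
  constructor
  · intro hn
    rcases h' with h' | h'
    · rw [hn] at h'; exact absurd h' (by decide)
    · obtain ⟨⟨⟨⟨⟨h1, h2⟩, h3⟩, h4⟩, h5⟩, -⟩ := h'
      exact ⟨h1, h2, h3, h4, h5⟩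
  · intro hn
    rcases h' with h' | h'
    · rw [hn] at h'; exact absurd h' (by decide)
    · exact h'.2

theorem sg_ne_zero {a b : I27} (h : nc a b = true) : ((sg a b : ℤ) : F) ≠ 0 := by
  rcases ((th_facts a b).1 h).2.2.2.2 with h' | h' <;> rw [h'] <;> simp

/-! ### Singular vectors -/

/-- `x` is singular: all partial derivatives of the cubic form vanish at `x`. -/
def Singular (x : I27 → F) : Prop := ∀ y, Q x y = 0

theorem singular_e (a : I27) : Singular (e F a) := by
  intro y
  rw [Q_eq_L3]
  have h := forall_wts (p := fun a => L3.all fun t => !((t.2.1 == a) && (t.2.2.1 == a))) (by decide +kernel) a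
  rw [List.all_eq_true] at h
  have : ∀ l : List (ℤ × I27 × I27 × I27), (∀ t ∈ l, (!((t.2.1 == a) && (t.2.2.1 == a))) = true) →
      (l.map fun t => term t (e F a) (e F a) y).sum = 0 := by
    intro l hl
    induction l with
    | nil => rfl
    | cons t l ih =>
      rw [List.map_cons, List.sum_cons, ih fun t ht => hl t (List.mem_cons_of_mem _ ht), add_zero]
      have ht := hl t List.mem_cons_self
      simp only [Bool.not_eq_true', Bool.and_eq_false_iff, beq_eq_false_iff_ne] at ht
      rcases ht with ht | ht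
      · rw [term, e_ne ht]; ring
      · rw [term, e_ne ht]; ring
  exact this L3 h

theorem Singular.mulVec (hs : ∃ s : F, s ≠ 0 ∧ s ≠ 1) {g : GL I27 F} (hg : g ∈ E6univ F) {x : I27 → F}
    (hx : Singular x) : Singular ((g : Matrix I27 I27 F).mulVec x) := by
  intro y
  have : y = (g : Matrix I27 I27 F).mulVec (((g⁻¹ : GL I27 F) : Matrix I27 I27 F).mulVec y) := by
    rw [Matrix.mulVec_mulVec, ← Units.val_mul, mul_inv_cancel, Units.val_one, Matrix.one_mulVec]
  rw [this, Q_mulVec hs hg, hx]

/-- A singular vector with `x l ≠ 0` that vanishes at all weights collinear with `l` is a multiple of `e_l`. -/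
theorem Singular.eq_zero {x : I27 → F} (hx : Singular x) {l : I27} (hl : x l ≠ 0)
    (h1 : ∀ b, ip l b = 1 → x b = 0) {c : I27} (hc : nc l c = true) : x c = 0 := by
  have hQ := hx (e F (th l c))
  rw [Q_eq_L3] at hQ
  have h := forall_wts (p := fun l => wts.all fun c => !(nc l c) ||
    (L3.all fun t => !(t.2.2.2 == th l c) || (ip l t.2.1 == 1) || (ip l t.2.2.1 == 1) ||
      ((t.1 == sg l c) && (((t.2.1 == l) && (t.2.2.1 == c)) || ((t.2.1 == c) && (t.2.2.1 == l)))))
      && ((L3.filter fun t => (t.2.2.2 == th l c) && !(ip l t.2.1 == 1) && !(ip l t.2.2.1 == 1)).length == 1))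
      (by decide +kernel) l
  have h' := forall_wts h c
  simp only [hc, Bool.not_true, Bool.false_or, Bool.and_eq_true, beq_iff_eq] at h'
  obtain ⟨hA, hB⟩ := h'
  have key : ∀ L : List (ℤ × I27 × I27 × I27),
      (L.all fun t => !(t.2.2.2 == th l c) || (ip l t.2.1 == 1) || (ip l t.2.2.1 == 1) ||
      ((t.1 == sg l c) && (((t.2.1 == l) && (t.2.2.1 == c)) || ((t.2.1 == c) && (t.2.2.1 == l))))) = true →
      (L.map fun t => term t x x (e F (th l c))).sum =
      ((L.filter fun t => (t.2.2.2 == th l c) && !(ip l t.2.1 == 1) && !(ip l t.2.2.1 == 1)).length : F) *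
        ((sg l c : F) * (x l * x c)) := by
    intro L hL
    induction L with
    | nil => simp
    | cons t L ih =>
      rw [List.all_cons, Bool.and_eq_true] at hL
      rw [List.map_cons, List.sum_cons, ih hL.2, List.filter_cons]
      by_cases h3 : t.2.2.2 = th l c
      · by_cases h4 : ip l t.2.1 = 1
        · rw [if_neg (by simp [h4]), term, h1 _ h4]; ring
        · by_cases h5 : ip l t.2.2.1 = 1
          · rw [if_neg (by simp [h5]), term, h1 _ h5]; ring
          · rw [if_pos (by simp [h3, h4, h5])]
            have := hL.1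
            simp only [h3, h4, h5, beq_self_eq_true, Bool.not_true, Bool.false_or, Bool.and_eq_true, Bool.or_eq_true,
              beq_iff_eq] at this
            rw [List.length_cons, Nat.cast_succ, term, h3, e_self]
            rcases this with h6 | ⟨h6, h7 | h7⟩
            · simp at h6
            · rw [h6, h7.1, h7.2]; ring
            · rw [h6, h7.1, h7.2]; ring
      · rw [if_neg (by simp [h3]), term, e_ne h3]; ring
  rw [key L3 hA, hB, Nat.cast_one, one_mul] at hQ
  rcases mul_eq_zero.1 hQ with h | h
  · exact absurd h (sg_ne_zero hc)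
  · rcases mul_eq_zero.1 h with h | h
    · exact absurd h hl
    · exact h

end Cfsg.Agent.ChevalleyStructure.E6Form.Cubic
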