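import Cfsg.Agent.ChevalleyStructure.E6Form.Cubic
import Cfsg.Agent.Prune
set_option linter.all false
prune_inst 0x7ffffdffffffffffdfff7fffaeffdffdfbbb7fffeffff9cbffee6dff2fff3f9ecfefffbf8ffb31fe1ff7eb1e54fefbd3fbffffffee6ffc7ffffdfff45ffbffcffdf7bd08719f9cb41fbc0fff63f07f8e7f3fffffffffffffffffffffffffffbeffbfffffffff
open scoped Cfsg.Agent.FastGrp
private noncomputable def lq26e29e3300 {T : Sort _} (f :
    type_of% (@_root_.Prod.mk.{0, 0}) →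
    type_of% (@_root_.List.cons.{0}) →
    type_of% (@_root_.List.nil.{0}) →
    type_of% (@_root_.List.cons.{0} (List (Prod Int (Prod (Prod (Fin 3) (Prod (Fin 3) (Fin 3))) (Prod (Fin 3) (Prod (Fin 3) (Fin 3))))))) → T) : T :=
  f (@_root_.Prod.mk.{0, 0}) (@_root_.List.cons.{0}) (@_root_.List.nil.{0}) (@_root_.List.cons.{0} (List (Prod Int (Prod (Prod (Fin 3) (Prod (Fin 3) (Fin 3))) (Prod (Fin 3) (Prod (Fin 3) (Fin 3)))))))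

-- part: ChevalleyStructure/E6Form/Table
section
/-!
# The 72 root matrices of E₆ on the 27-dimensional module

`tab` lists, for every root `r < 72` of `chevE6` (same index), the six entries `(ε, a, b)` of the matrix `N_r`:
`N_r e_a = ε e_b`. `zG r t` is the element `1 + t N_r` of `GL I27 F`.
-/

set_option autoImplicit false

namespace Cfsg.Agent.ChevalleyStructure.E6Form.Table

open Cfsg.Lie Cfsg.Agent.ChevalleyStructure.E6Form.Cubic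

universe u

/-- The root matrices: entry `(ε, a, b)` of row `r` means `N_r e_a = ε e_b`. -/
def tab : List (List (ℤ × I27 × I27)) := (beta% delta% lq26e29e3300 fun a b c d =>
 (let e:=(let e:=(let e:=(let e:=(d (b (a 1<|a (a 0<|a 2 0) (a 1<|a 1 2))<|b (a (-1)<|a (a 0<|a 2 1) (a 1<|a 0 2))<|b (a 1<|a (a 1<|a 2 0) (a 2<|a 1 2))<|b (a (-1)<|a (a 1<|a 2 1) (a 2<|a 0 2))<|b (a 1<|a (a 2<|a 2 0) (a 0<|a 1 2))<|b (a (-1)<|a (a 2<|a 2 1) (a 0<|a 0 2))<|c)<|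
 d (b (a 1<|a (a 0<|a 2 0) (a 1<|a 1 1))<|b (a (-1)<|a (a 0<|a 2 1) (a 1<|a 0 1))<|b (a (-1)<|a (a 1<|a 2 0) (a 2<|a 2 2))<|b (a 1<|a (a 1<|a 2 2) (a 2<|a 0 2))<|b (a 1<|a (a 2<|a 1 0) (a 0<|a 1 2))<|b (a (-1)<|a (a 2<|a 1 1) (a 0<|a 0 2))<|c)<|
 d (b (a 1<|a (a 0<|a 2 0) (a 1<|a 1 0))<|b (a (-1)<|a (a 0<|a 2 1) (a 1<|a 0 0))<|b (a 1<|a (a 1<|a 2 1) (a 2<|a 2 2))<|b (a (-1)<|a (a 1<|a 2 2) (a 2<|a 1 2))<|b (a 1<|a (a 2<|a 0 0) (a 0<|a 1 2))<|b (a (-1)<|a (a 2<|a 0 1) (a 0<|a 0 2))<|c)<|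
 d (b (a (-1)<|a (a 0<|a 2 0) (a 0<|a 0 0))<|b (a (-1)<|a (a 0<|a 2 1) (a 0<|a 0 1))<|b (a (-1)<|a (a 0<|a 2 2) (a 0<|a 0 2))<|b (a 1<|a (a 2<|a 0 0) (a 2<|a 0 2))<|b (a 1<|a (a 2<|a 1 0) (a 2<|a 1 2))<|b (a 1<|a (a 2<|a 2 0) (a 2<|a 2 2))<|c)<|
 d (b (a (-1)<|a (a 0<|a 2 0) (a 0<|a 1 0))<|b (a (-1)<|a (a 0<|a 2 1) (a 0<|a 1 1))<|b (a (-1)<|a (a 0<|a 2 2) (a 0<|a 1 2))<|b (a 1<|a (a 2<|a 0 1) (a 2<|a 0 2))<|b (a 1<|a (a 2<|a 1 1) (a 2<|a 1 2))<|b (a 1<|a (a 2<|a 2 1) (a 2<|a 2 2))<|c)<|c);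
 (d (b (a (-1)<|a (a 0<|a 0 0) (a 2<|a 2 2))<|b (a 1<|a (a 0<|a 2 0) (a 2<|a 2 0))<|b (a 1<|a (a 1<|a 1 2) (a 0<|a 1 2))<|b (a (-1)<|a (a 1<|a 2 2) (a 0<|a 1 1))<|b (a 1<|a (a 2<|a 0 1) (a 1<|a 0 1))<|b (a (-1)<|a (a 2<|a 1 1) (a 1<|a 0 0))<|c)<|
 d (b (a (-1)<|a (a 0<|a 2 0) (a 1<|a 2 2))<|b (a 1<|a (a 0<|a 2 2) (a 1<|a 0 2))<|b (a 1<|a (a 1<|a 1 0) (a 2<|a 1 2))<|b (a (-1)<|a (a 1<|a 1 1) (a 2<|a 0 2))<|b (a 1<|a (a 2<|a 2 0) (a 0<|a 1 1))<|b (a (-1)<|a (a 2<|a 2 1) (a 0<|a 0 1))<|c)<|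
 d (b (a (-1)<|a (a 0<|a 2 0) (a 1<|a 2 1))<|b (a 1<|a (a 0<|a 2 2) (a 1<|a 0 1))<|b (a (-1)<|a (a 1<|a 1 0) (a 2<|a 2 2))<|b (a 1<|a (a 1<|a 1 2) (a 2<|a 0 2))<|b (a 1<|a (a 2<|a 1 0) (a 0<|a 1 1))<|b (a (-1)<|a (a 2<|a 1 1) (a 0<|a 0 1))<|c)<|
 d (b (a (-1)<|a (a 0<|a 2 0) (a 1<|a 2 0))<|b (a 1<|a (a 0<|a 2 2) (a 1<|a 0 0))<|b (a 1<|a (a 1<|a 1 1) (a 2<|a 2 2))<|b (a (-1)<|a (a 1<|a 1 2) (a 2<|a 1 2))<|b (a 1<|a (a 2<|a 0 0) (a 0<|a 1 1))<|b (a (-1)<|a (a 2<|a 0 1) (a 0<|a 0 1))<|c)<|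
 e));
 (let e:=(d (b (a 1<|a (a 0<|a 1 0) (a 2<|a 0 2))<|b (a (-1)<|a (a 0<|a 2 0) (a 2<|a 0 1))<|b (a 1<|a (a 1<|a 1 0) (a 0<|a 0 2))<|b (a (-1)<|a (a 1<|a 2 0) (a 0<|a 0 1))<|b (a 1<|a (a 2<|a 1 0) (a 1<|a 0 2))<|b (a (-1)<|a (a 2<|a 2 0) (a 1<|a 0 1))<|c)<|
 d (b (a (-1)<|a (a 0<|a 1 0) (a 2<|a 1 2))<|b (a 1<|a (a 0<|a 2 0) (a 2<|a 1 1))<|b (a (-1)<|a (a 1<|a 1 1) (a 0<|a 0 2))<|b (a 1<|a (a 1<|a 2 1) (a 0<|a 0 1))<|b (a 1<|a (a 2<|a 0 0) (a 1<|a 0 2))<|b (a (-1)<|a (a 2<|a 2 0) (a 1<|a 0 0))<|c)<|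
 d (b (a 1<|a (a 0<|a 1 0) (a 2<|a 2 2))<|b (a (-1)<|a (a 0<|a 2 0) (a 2<|a 2 1))<|b (a 1<|a (a 1<|a 1 2) (a 0<|a 0 2))<|b (a (-1)<|a (a 1<|a 2 2) (a 0<|a 0 1))<|b (a 1<|a (a 2<|a 0 0) (a 1<|a 0 1))<|b (a (-1)<|a (a 2<|a 1 0) (a 1<|a 0 0))<|c)<|
 d (b (a (-1)<|a (a 0<|a 0 0) (a 2<|a 0 2))<|b (a 1<|a (a 0<|a 2 0) (a 2<|a 0 0))<|b (a 1<|a (a 1<|a 1 0) (a 0<|a 1 2))<|b (a (-1)<|a (a 1<|a 2 0) (a 0<|a 1 1))<|b (a 1<|a (a 2<|a 1 1) (a 1<|a 0 2))<|b (a (-1)<|a (a 2<|a 2 1) (a 1<|a 0 1))<|c)<|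
 d (b (a 1<|a (a 0<|a 0 0) (a 2<|a 1 2))<|b (a (-1)<|a (a 0<|a 2 0) (a 2<|a 1 0))<|b (a (-1)<|a (a 1<|a 1 1) (a 0<|a 1 2))<|b (a 1<|a (a 1<|a 2 1) (a 0<|a 1 1))<|b (a 1<|a (a 2<|a 0 1) (a 1<|a 0 2))<|b (a (-1)<|a (a 2<|a 2 1) (a 1<|a 0 0))<|c)<|
 e);
 (d (b (a (-1)<|a (a 0<|a 2 1) (a 1<|a 2 1))<|b (a 1<|a (a 0<|a 2 2) (a 1<|a 1 1))<|b (a 1<|a (a 1<|a 0 0) (a 2<|a 2 2))<|b (a (-1)<|a (a 1<|a 0 2) (a 2<|a 0 2))<|b (a (-1)<|a (a 2<|a 1 0) (a 0<|a 1 0))<|b (a 1<|a (a 2<|a 1 1) (a 0<|a 0 0))<|c)<|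
 d (b (a (-1)<|a (a 0<|a 2 1) (a 1<|a 2 0))<|b (a 1<|a (a 0<|a 2 2) (a 1<|a 1 0))<|b (a (-1)<|a (a 1<|a 0 1) (a 2<|a 2 2))<|b (a 1<|a (a 1<|a 0 2) (a 2<|a 1 2))<|b (a (-1)<|a (a 2<|a 0 0) (a 0<|a 1 0))<|b (a 1<|a (a 2<|a 0 1) (a 0<|a 0 0))<|c)<|
 d (b (a 1<|a (a 0<|a 0 0) (a 0<|a 0 1))<|b (a 1<|a (a 0<|a 1 0) (a 0<|a 1 1))<|b (a 1<|a (a 0<|a 2 0) (a 0<|a 2 1))<|b (a (-1)<|a (a 1<|a 1 0) (a 1<|a 0 0))<|b (a (-1)<|a (a 1<|a 1 1) (a 1<|a 0 1))<|b (a (-1)<|a (a 1<|a 1 2) (a 1<|a 0 2))<|c)<|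
 d (b (a 1<|a (a 0<|a 0 0) (a 0<|a 0 2))<|b (a 1<|a (a 0<|a 1 0) (a 0<|a 1 2))<|b (a 1<|a (a 0<|a 2 0) (a 0<|a 2 2))<|b (a (-1)<|a (a 1<|a 2 0) (a 1<|a 0 0))<|b (a (-1)<|a (a 1<|a 2 1) (a 1<|a 0 1))<|b (a (-1)<|a (a 1<|a 2 2) (a 1<|a 0 2))<|c)<|
 e)));
 (let e:=(let e:=(d (b (a 1<|a (a 0<|a 0 2) (a 2<|a 2 2))<|b (a (-1)<|a (a 0<|a 2 2) (a 2<|a 2 0))<|b (a (-1)<|a (a 1<|a 0 2) (a 0<|a 1 1))<|b (a 1<|a (a 1<|a 1 2) (a 0<|a 1 0))<|b (a (-1)<|a (a 2<|a 0 1) (a 1<|a 2 1))<|b (a 1<|a (a 2<|a 1 1) (a 1<|a 2 0))<|c)<|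
 d (b (a (-1)<|a (a 0<|a 0 1) (a 2<|a 0 2))<|b (a 1<|a (a 0<|a 2 1) (a 2<|a 0 0))<|b (a (-1)<|a (a 1<|a 0 0) (a 0<|a 1 2))<|b (a 1<|a (a 1<|a 2 0) (a 0<|a 1 0))<|b (a 1<|a (a 2<|a 1 1) (a 1<|a 1 2))<|b (a (-1)<|a (a 2<|a 2 1) (a 1<|a 1 1))<|c)<|
 d (b (a 1<|a (a 0<|a 0 1) (a 2<|a 1 2))<|b (a (-1)<|a (a 0<|a 2 1) (a 2<|a 1 0))<|b (a 1<|a (a 1<|a 0 1) (a 0<|a 1 2))<|b (a (-1)<|a (a 1<|a 2 1) (a 0<|a 1 0))<|b (a 1<|a (a 2<|a 0 1) (a 1<|a 1 2))<|b (a (-1)<|a (a 2<|a 2 1) (a 1<|a 1 0))<|c)<|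
 d (b (a (-1)<|a (a 0<|a 0 1) (a 2<|a 2 2))<|b (a 1<|a (a 0<|a 2 1) (a 2<|a 2 0))<|b (a (-1)<|a (a 1<|a 0 2) (a 0<|a 1 2))<|b (a 1<|a (a 1<|a 2 2) (a 0<|a 1 0))<|b (a 1<|a (a 2<|a 0 1) (a 1<|a 1 1))<|b (a (-1)<|a (a 2<|a 1 1) (a 1<|a 1 0))<|c)<|
 d (b (a (-1)<|a (a 0<|a 2 1) (a 1<|a 2 2))<|b (a 1<|a (a 0<|a 2 2) (a 1<|a 1 2))<|b (a (-1)<|a (a 1<|a 0 0) (a 2<|a 1 2))<|b (a 1<|a (a 1<|a 0 1) (a 2<|a 0 2))<|b (a (-1)<|a (a 2<|a 2 0) (a 0<|a 1 0))<|b (a 1<|a (a 2<|a 2 1) (a 0<|a 0 0))<|c)<|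
 e);
 (d (b (a 1<|a (a 0<|a 1 1) (a 2<|a 2 2))<|b (a (-1)<|a (a 0<|a 2 1) (a 2<|a 2 1))<|b (a (-1)<|a (a 1<|a 0 2) (a 0<|a 0 2))<|b (a 1<|a (a 1<|a 2 2) (a 0<|a 0 0))<|b (a 1<|a (a 2<|a 0 0) (a 1<|a 1 1))<|b (a (-1)<|a (a 2<|a 1 0) (a 1<|a 1 0))<|c)<|
 d (b (a 1<|a (a 0<|a 0 0) (a 0<|a 1 0))<|b (a 1<|a (a 0<|a 0 1) (a 0<|a 1 1))<|b (a 1<|a (a 0<|a 0 2) (a 0<|a 1 2))<|b (a (-1)<|a (a 2<|a 0 1) (a 2<|a 0 0))<|b (a (-1)<|a (a 2<|a 1 1) (a 2<|a 1 0))<|b (a (-1)<|a (a 2<|a 2 1) (a 2<|a 2 0))<|c)<|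
 d (b (a 1<|a (a 0<|a 0 2) (a 2<|a 0 2))<|b (a (-1)<|a (a 0<|a 2 2) (a 2<|a 0 0))<|b (a (-1)<|a (a 1<|a 0 0) (a 0<|a 1 1))<|b (a 1<|a (a 1<|a 1 0) (a 0<|a 1 0))<|b (a (-1)<|a (a 2<|a 1 1) (a 1<|a 2 2))<|b (a 1<|a (a 2<|a 2 1) (a 1<|a 2 1))<|c)<|
 d (b (a (-1)<|a (a 0<|a 0 2) (a 2<|a 1 2))<|b (a 1<|a (a 0<|a 2 2) (a 2<|a 1 0))<|b (a 1<|a (a 1<|a 0 1) (a 0<|a 1 1))<|b (a (-1)<|a (a 1<|a 1 1) (a 0<|a 1 0))<|b (a (-1)<|a (a 2<|a 0 1) (a 1<|a 2 2))<|b (a 1<|a (a 2<|a 2 1) (a 1<|a 2 0))<|c)<|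
 e));
 (let e:=(d (b (a (-1)<|a (a 0<|a 1 2) (a 2<|a 1 2))<|b (a 1<|a (a 0<|a 2 2) (a 2<|a 1 1))<|b (a (-1)<|a (a 1<|a 0 1) (a 0<|a 0 1))<|b (a 1<|a (a 1<|a 1 1) (a 0<|a 0 0))<|b (a 1<|a (a 2<|a 0 0) (a 1<|a 2 2))<|b (a (-1)<|a (a 2<|a 2 0) (a 1<|a 2 0))<|c)<|
 d (b (a 1<|a (a 0<|a 1 2) (a 2<|a 2 2))<|b (a (-1)<|a (a 0<|a 2 2) (a 2<|a 2 1))<|b (a 1<|a (a 1<|a 0 2) (a 0<|a 0 1))<|b (a (-1)<|a (a 1<|a 1 2) (a 0<|a 0 0))<|b (a 1<|a (a 2<|a 0 0) (a 1<|a 2 1))<|b (a (-1)<|a (a 2<|a 1 0) (a 1<|a 2 0))<|c)<|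
 d (b (a 1<|a (a 0<|a 0 1) (a 0<|a 0 2))<|b (a 1<|a (a 0<|a 1 1) (a 0<|a 1 2))<|b (a 1<|a (a 0<|a 2 1) (a 0<|a 2 2))<|b (a (-1)<|a (a 1<|a 2 0) (a 1<|a 1 0))<|b (a (-1)<|a (a 1<|a 2 1) (a 1<|a 1 1))<|b (a (-1)<|a (a 1<|a 2 2) (a 1<|a 1 2))<|c)<|
 d (b (a 1<|a (a 0<|a 1 1) (a 2<|a 0 2))<|b (a (-1)<|a (a 0<|a 2 1) (a 2<|a 0 1))<|b (a (-1)<|a (a 1<|a 0 0) (a 0<|a 0 2))<|b (a 1<|a (a 1<|a 2 0) (a 0<|a 0 0))<|b (a 1<|a (a 2<|a 1 0) (a 1<|a 1 2))<|b (a (-1)<|a (a 2<|a 2 0) (a 1<|a 1 1))<|c)<|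
 d (b (a (-1)<|a (a 0<|a 1 1) (a 2<|a 1 2))<|b (a 1<|a (a 0<|a 2 1) (a 2<|a 1 1))<|b (a 1<|a (a 1<|a 0 1) (a 0<|a 0 2))<|b (a (-1)<|a (a 1<|a 2 1) (a 0<|a 0 0))<|b (a 1<|a (a 2<|a 0 0) (a 1<|a 1 2))<|b (a (-1)<|a (a 2<|a 2 0) (a 1<|a 1 0))<|c)<|
 e);
 (d (b (a 1<|a (a 1<|a 0 2) (a 1<|a 0 1))<|b (a 1<|a (a 1<|a 1 2) (a 1<|a 1 1))<|b (a 1<|a (a 1<|a 2 2) (a 1<|a 2 1))<|b (a (-1)<|a (a 2<|a 1 0) (a 2<|a 2 0))<|b (a (-1)<|a (a 2<|a 1 1) (a 2<|a 2 1))<|b (a (-1)<|a (a 2<|a 1 2) (a 2<|a 2 2))<|c)<|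
 d (b (a 1<|a (a 1<|a 0 1) (a 1<|a 0 0))<|b (a 1<|a (a 1<|a 1 1) (a 1<|a 1 0))<|b (a 1<|a (a 1<|a 2 1) (a 1<|a 2 0))<|b (a (-1)<|a (a 2<|a 0 0) (a 2<|a 1 0))<|b (a (-1)<|a (a 2<|a 0 1) (a 2<|a 1 1))<|b (a (-1)<|a (a 2<|a 0 2) (a 2<|a 1 2))<|c)<|
 d (b (a (-1)<|a (a 1<|a 0 2) (a 1<|a 0 0))<|b (a (-1)<|a (a 1<|a 1 2) (a 1<|a 1 0))<|b (a (-1)<|a (a 1<|a 2 2) (a 1<|a 2 0))<|b (a 1<|a (a 2<|a 0 0) (a 2<|a 2 0))<|b (a 1<|a (a 2<|a 0 1) (a 2<|a 2 1))<|b (a 1<|a (a 2<|a 0 2) (a 2<|a 2 2))<|c)<|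
 d (b (a 1<|a (a 0<|a 1 2) (a 2<|a 0 2))<|b (a (-1)<|a (a 0<|a 2 2) (a 2<|a 0 1))<|b (a 1<|a (a 1<|a 0 0) (a 0<|a 0 1))<|b (a (-1)<|a (a 1<|a 1 0) (a 0<|a 0 0))<|b (a 1<|a (a 2<|a 1 0) (a 1<|a 2 2))<|b (a (-1)<|a (a 2<|a 2 0) (a 1<|a 2 1))<|c)<|
 e))));
 (let e:=(let e:=(let e:=(d (b (a 1<|a (a 0<|a 0 0) (a 1<|a 1 1))<|b (a (-1)<|a (a 0<|a 0 1) (a 1<|a 0 1))<|b (a (-1)<|a (a 1<|a 2 0) (a 2<|a 2 0))<|b (a 1<|a (a 1<|a 2 2) (a 2<|a 0 0))<|b (a 1<|a (a 2<|a 1 1) (a 0<|a 2 2))<|b (a (-1)<|a (a 2<|a 1 2) (a 0<|a 1 2))<|c)<|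
 d (b (a (-1)<|a (a 0<|a 0 0) (a 1<|a 1 0))<|b (a 1<|a (a 0<|a 0 1) (a 1<|a 0 0))<|b (a (-1)<|a (a 1<|a 2 1) (a 2<|a 2 0))<|b (a 1<|a (a 1<|a 2 2) (a 2<|a 1 0))<|b (a (-1)<|a (a 2<|a 0 1) (a 0<|a 2 2))<|b (a 1<|a (a 2<|a 0 2) (a 0<|a 1 2))<|c)<|
 d (b (a (-1)<|a (a 1<|a 0 0) (a 1<|a 0 2))<|b (a (-1)<|a (a 1<|a 1 0) (a 1<|a 1 2))<|b (a (-1)<|a (a 1<|a 2 0) (a 1<|a 2 2))<|b (a 1<|a (a 2<|a 2 0) (a 2<|a 0 0))<|b (a 1<|a (a 2<|a 2 1) (a 2<|a 0 1))<|b (a 1<|a (a 2<|a 2 2) (a 2<|a 0 2))<|c)<|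
 d (b (a 1<|a (a 1<|a 0 0) (a 1<|a 0 1))<|b (a 1<|a (a 1<|a 1 0) (a 1<|a 1 1))<|b (a 1<|a (a 1<|a 2 0) (a 1<|a 2 1))<|b (a (-1)<|a (a 2<|a 1 0) (a 2<|a 0 0))<|b (a (-1)<|a (a 2<|a 1 1) (a 2<|a 0 1))<|b (a (-1)<|a (a 2<|a 1 2) (a 2<|a 0 2))<|c)<|
 d (b (a 1<|a (a 1<|a 0 1) (a 1<|a 0 2))<|b (a 1<|a (a 1<|a 1 1) (a 1<|a 1 2))<|b (a 1<|a (a 1<|a 2 1) (a 1<|a 2 2))<|b (a (-1)<|a (a 2<|a 2 0) (a 2<|a 1 0))<|b (a (-1)<|a (a 2<|a 2 1) (a 2<|a 1 1))<|b (a (-1)<|a (a 2<|a 2 2) (a 2<|a 1 2))<|c)<|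
 e);
 (d (b (a (-1)<|a (a 0<|a 0 0) (a 1<|a 2 1))<|b (a 1<|a (a 0<|a 0 2) (a 1<|a 0 1))<|b (a (-1)<|a (a 1<|a 1 0) (a 2<|a 2 0))<|b (a 1<|a (a 1<|a 1 2) (a 2<|a 0 0))<|b (a 1<|a (a 2<|a 1 1) (a 0<|a 2 1))<|b (a (-1)<|a (a 2<|a 1 2) (a 0<|a 1 1))<|c)<|
 d (b (a 1<|a (a 0<|a 0 0) (a 1<|a 2 0))<|b (a (-1)<|a (a 0<|a 0 2) (a 1<|a 0 0))<|b (a (-1)<|a (a 1<|a 1 1) (a 2<|a 2 0))<|b (a 1<|a (a 1<|a 1 2) (a 2<|a 1 0))<|b (a (-1)<|a (a 2<|a 0 1) (a 0<|a 2 1))<|b (a 1<|a (a 2<|a 0 2) (a 0<|a 1 1))<|c)<|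
 d (b (a 1<|a (a 0<|a 0 2) (a 0<|a 0 1))<|b (a 1<|a (a 0<|a 1 2) (a 0<|a 1 1))<|b (a 1<|a (a 0<|a 2 2) (a 0<|a 2 1))<|b (a (-1)<|a (a 1<|a 1 0) (a 1<|a 2 0))<|b (a (-1)<|a (a 1<|a 1 1) (a 1<|a 2 1))<|b (a (-1)<|a (a 1<|a 1 2) (a 1<|a 2 2))<|c)<|
 d (b (a (-1)<|a (a 0<|a 0 0) (a 1<|a 1 2))<|b (a 1<|a (a 0<|a 0 1) (a 1<|a 0 2))<|b (a (-1)<|a (a 1<|a 2 0) (a 2<|a 1 0))<|b (a 1<|a (a 1<|a 2 1) (a 2<|a 0 0))<|b (a (-1)<|a (a 2<|a 2 1) (a 0<|a 2 2))<|b (a 1<|a (a 2<|a 2 2) (a 0<|a 1 2))<|c)<|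
 e));
 (let e:=(d (b (a 1<|a (a 0<|a 1 0) (a 1<|a 1 2))<|b (a (-1)<|a (a 0<|a 1 1) (a 1<|a 0 2))<|b (a 1<|a (a 1<|a 2 0) (a 2<|a 1 1))<|b (a (-1)<|a (a 1<|a 2 1) (a 2<|a 0 1))<|b (a (-1)<|a (a 2<|a 2 0) (a 0<|a 2 2))<|b (a 1<|a (a 2<|a 2 2) (a 0<|a 0 2))<|c)<|
 d (b (a (-1)<|a (a 0<|a 1 0) (a 1<|a 1 1))<|b (a 1<|a (a 0<|a 1 1) (a 1<|a 0 1))<|b (a 1<|a (a 1<|a 2 0) (a 2<|a 2 1))<|b (a (-1)<|a (a 1<|a 2 2) (a 2<|a 0 1))<|b (a 1<|a (a 2<|a 1 0) (a 0<|a 2 2))<|b (a (-1)<|a (a 2<|a 1 2) (a 0<|a 0 2))<|c)<|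
 d (b (a 1<|a (a 0<|a 1 0) (a 1<|a 1 0))<|b (a (-1)<|a (a 0<|a 1 1) (a 1<|a 0 0))<|b (a 1<|a (a 1<|a 2 1) (a 2<|a 2 1))<|b (a (-1)<|a (a 1<|a 2 2) (a 2<|a 1 1))<|b (a (-1)<|a (a 2<|a 0 0) (a 0<|a 2 2))<|b (a 1<|a (a 2<|a 0 2) (a 0<|a 0 2))<|c)<|
 d (b (a 1<|a (a 0<|a 1 0) (a 0<|a 0 0))<|b (a 1<|a (a 0<|a 1 1) (a 0<|a 0 1))<|b (a 1<|a (a 0<|a 1 2) (a 0<|a 0 2))<|b (a (-1)<|a (a 2<|a 0 0) (a 2<|a 0 1))<|b (a (-1)<|a (a 2<|a 1 0) (a 2<|a 1 1))<|b (a (-1)<|a (a 2<|a 2 0) (a 2<|a 2 1))<|c)<|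
 d (b (a 1<|a (a 0<|a 0 0) (a 1<|a 2 2))<|b (a (-1)<|a (a 0<|a 0 2) (a 1<|a 0 2))<|b (a (-1)<|a (a 1<|a 1 0) (a 2<|a 1 0))<|b (a 1<|a (a 1<|a 1 1) (a 2<|a 0 0))<|b (a (-1)<|a (a 2<|a 2 1) (a 0<|a 2 1))<|b (a 1<|a (a 2<|a 2 2) (a 0<|a 1 1))<|c)<|
 e);
 (d (b (a 1<|a (a 0<|a 0 0) (a 2<|a 2 1))<|b (a (-1)<|a (a 0<|a 1 0) (a 2<|a 2 0))<|b (a 1<|a (a 1<|a 1 2) (a 0<|a 2 2))<|b (a (-1)<|a (a 1<|a 2 2) (a 0<|a 2 1))<|b (a 1<|a (a 2<|a 0 2) (a 1<|a 0 1))<|b (a (-1)<|a (a 2<|a 1 2) (a 1<|a 0 0))<|c)<|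
 d (b (a 1<|a (a 0<|a 1 0) (a 1<|a 2 2))<|b (a (-1)<|a (a 0<|a 1 2) (a 1<|a 0 2))<|b (a (-1)<|a (a 1<|a 1 0) (a 2<|a 1 1))<|b (a 1<|a (a 1<|a 1 1) (a 2<|a 0 1))<|b (a 1<|a (a 2<|a 2 0) (a 0<|a 2 1))<|b (a (-1)<|a (a 2<|a 2 2) (a 0<|a 0 1))<|c)<|
 d (b (a (-1)<|a (a 0<|a 1 0) (a 1<|a 2 1))<|b (a 1<|a (a 0<|a 1 2) (a 1<|a 0 1))<|b (a (-1)<|a (a 1<|a 1 0) (a 2<|a 2 1))<|b (a 1<|a (a 1<|a 1 2) (a 2<|a 0 1))<|b (a (-1)<|a (a 2<|a 1 0) (a 0<|a 2 1))<|b (a 1<|a (a 2<|a 1 2) (a 0<|a 0 1))<|c)<|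
 d (b (a 1<|a (a 0<|a 1 0) (a 1<|a 2 0))<|b (a (-1)<|a (a 0<|a 1 2) (a 1<|a 0 0))<|b (a (-1)<|a (a 1<|a 1 1) (a 2<|a 2 1))<|b (a 1<|a (a 1<|a 1 2) (a 2<|a 1 1))<|b (a 1<|a (a 2<|a 0 0) (a 0<|a 2 1))<|b (a (-1)<|a (a 2<|a 0 2) (a 0<|a 0 1))<|c)<|
 e)));
 (let e:=(let e:=(d (b (a (-1)<|a (a 0<|a 0 1) (a 1<|a 2 0))<|b (a 1<|a (a 0<|a 0 2) (a 1<|a 1 0))<|b (a (-1)<|a (a 1<|a 0 1) (a 2<|a 2 0))<|b (a 1<|a (a 1<|a 0 2) (a 2<|a 1 0))<|b (a (-1)<|a (a 2<|a 0 1) (a 0<|a 2 0))<|b (a 1<|a (a 2<|a 0 2) (a 0<|a 1 0))<|c)<|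
 d (b (a 1<|a (a 0<|a 0 2) (a 0<|a 0 0))<|b (a 1<|a (a 0<|a 1 2) (a 0<|a 1 0))<|b (a 1<|a (a 0<|a 2 2) (a 0<|a 2 0))<|b (a (-1)<|a (a 1<|a 0 0) (a 1<|a 2 0))<|b (a (-1)<|a (a 1<|a 0 1) (a 1<|a 2 1))<|b (a (-1)<|a (a 1<|a 0 2) (a 1<|a 2 2))<|c)<|
 d (b (a 1<|a (a 0<|a 0 1) (a 0<|a 0 0))<|b (a 1<|a (a 0<|a 1 1) (a 0<|a 1 0))<|b (a 1<|a (a 0<|a 2 1) (a 0<|a 2 0))<|b (a (-1)<|a (a 1<|a 0 0) (a 1<|a 1 0))<|b (a (-1)<|a (a 1<|a 0 1) (a 1<|a 1 1))<|b (a (-1)<|a (a 1<|a 0 2) (a 1<|a 1 2))<|c)<|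
 d (b (a 1<|a (a 0<|a 0 0) (a 2<|a 0 1))<|b (a (-1)<|a (a 0<|a 1 0) (a 2<|a 0 0))<|b (a 1<|a (a 1<|a 1 0) (a 0<|a 2 2))<|b (a (-1)<|a (a 1<|a 2 0) (a 0<|a 2 1))<|b (a 1<|a (a 2<|a 1 2) (a 1<|a 0 2))<|b (a (-1)<|a (a 2<|a 2 2) (a 1<|a 0 1))<|c)<|
 d (b (a 1<|a (a 0<|a 0 0) (a 2<|a 1 1))<|b (a (-1)<|a (a 0<|a 1 0) (a 2<|a 1 0))<|b (a 1<|a (a 1<|a 1 1) (a 0<|a 2 2))<|b (a (-1)<|a (a 1<|a 2 1) (a 0<|a 2 1))<|b (a (-1)<|a (a 2<|a 0 2) (a 1<|a 0 2))<|b (a 1<|a (a 2<|a 2 2) (a 1<|a 0 0))<|c)<|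
 e);
 (d (b (a 1<|a (a 0<|a 1 1) (a 1<|a 2 1))<|b (a (-1)<|a (a 0<|a 1 2) (a 1<|a 1 1))<|b (a (-1)<|a (a 1<|a 0 0) (a 2<|a 2 1))<|b (a 1<|a (a 1<|a 0 2) (a 2<|a 0 1))<|b (a (-1)<|a (a 2<|a 1 0) (a 0<|a 2 0))<|b (a 1<|a (a 2<|a 1 2) (a 0<|a 0 0))<|c)<|
 d (b (a (-1)<|a (a 0<|a 1 1) (a 1<|a 2 0))<|b (a 1<|a (a 0<|a 1 2) (a 1<|a 1 0))<|b (a (-1)<|a (a 1<|a 0 1) (a 2<|a 2 1))<|b (a 1<|a (a 1<|a 0 2) (a 2<|a 1 1))<|b (a 1<|a (a 2<|a 0 0) (a 0<|a 2 0))<|b (a (-1)<|a (a 2<|a 0 2) (a 0<|a 0 0))<|c)<|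
 d (b (a (-1)<|a (a 0<|a 0 1) (a 1<|a 2 2))<|b (a 1<|a (a 0<|a 0 2) (a 1<|a 1 2))<|b (a (-1)<|a (a 1<|a 0 0) (a 2<|a 1 0))<|b (a 1<|a (a 1<|a 0 1) (a 2<|a 0 0))<|b (a (-1)<|a (a 2<|a 2 1) (a 0<|a 2 0))<|b (a 1<|a (a 2<|a 2 2) (a 0<|a 1 0))<|c)<|
 d (b (a 1<|a (a 0<|a 0 1) (a 1<|a 2 1))<|b (a (-1)<|a (a 0<|a 0 2) (a 1<|a 1 1))<|b (a (-1)<|a (a 1<|a 0 0) (a 2<|a 2 0))<|b (a 1<|a (a 1<|a 0 2) (a 2<|a 0 0))<|b (a 1<|a (a 2<|a 1 1) (a 0<|a 2 0))<|b (a (-1)<|a (a 2<|a 1 2) (a 0<|a 1 0))<|c)<|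
 e));
 (let e:=(d (b (a (-1)<|a (a 0<|a 0 2) (a 2<|a 2 1))<|b (a 1<|a (a 0<|a 1 2) (a 2<|a 2 0))<|b (a (-1)<|a (a 1<|a 0 2) (a 0<|a 2 1))<|b (a 1<|a (a 1<|a 1 2) (a 0<|a 2 0))<|b (a (-1)<|a (a 2<|a 0 2) (a 1<|a 2 1))<|b (a 1<|a (a 2<|a 1 2) (a 1<|a 2 0))<|c)<|
 d (b (a (-1)<|a (a 0<|a 0 1) (a 2<|a 0 1))<|b (a 1<|a (a 0<|a 1 1) (a 2<|a 0 0))<|b (a 1<|a (a 1<|a 0 0) (a 0<|a 2 2))<|b (a (-1)<|a (a 1<|a 2 0) (a 0<|a 2 0))<|b (a (-1)<|a (a 2<|a 1 2) (a 1<|a 1 2))<|b (a 1<|a (a 2<|a 2 2) (a 1<|a 1 1))<|c)<|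
 d (b (a (-1)<|a (a 0<|a 0 1) (a 2<|a 1 1))<|b (a 1<|a (a 0<|a 1 1) (a 2<|a 1 0))<|b (a 1<|a (a 1<|a 0 1) (a 0<|a 2 2))<|b (a (-1)<|a (a 1<|a 2 1) (a 0<|a 2 0))<|b (a 1<|a (a 2<|a 0 2) (a 1<|a 1 2))<|b (a (-1)<|a (a 2<|a 2 2) (a 1<|a 1 0))<|c)<|
 d (b (a (-1)<|a (a 0<|a 0 1) (a 2<|a 2 1))<|b (a 1<|a (a 0<|a 1 1) (a 2<|a 2 0))<|b (a 1<|a (a 1<|a 0 2) (a 0<|a 2 2))<|b (a (-1)<|a (a 1<|a 2 2) (a 0<|a 2 0))<|b (a (-1)<|a (a 2<|a 0 2) (a 1<|a 1 1))<|b (a 1<|a (a 2<|a 1 2) (a 1<|a 1 0))<|c)<|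
 d (b (a (-1)<|a (a 0<|a 1 1) (a 1<|a 2 2))<|b (a 1<|a (a 0<|a 1 2) (a 1<|a 1 2))<|b (a (-1)<|a (a 1<|a 0 0) (a 2<|a 1 1))<|b (a 1<|a (a 1<|a 0 1) (a 2<|a 0 1))<|b (a 1<|a (a 2<|a 2 0) (a 0<|a 2 0))<|b (a (-1)<|a (a 2<|a 2 2) (a 0<|a 0 0))<|c)<|
 e);
 (b (b (a (-1)<|a (a 0<|a 1 0) (a 0<|a 2 0))<|b (a (-1)<|a (a 0<|a 1 1) (a 0<|a 2 1))<|b (a (-1)<|a (a 0<|a 1 2) (a 0<|a 2 2))<|b (a 1<|a (a 2<|a 0 2) (a 2<|a 0 1))<|b (a 1<|a (a 2<|a 1 2) (a 2<|a 1 1))<|b (a 1<|a (a 2<|a 2 2) (a 2<|a 2 1))<|c)<|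
 b (b (a (-1)<|a (a 0<|a 0 0) (a 0<|a 2 0))<|b (a (-1)<|a (a 0<|a 0 1) (a 0<|a 2 1))<|b (a (-1)<|a (a 0<|a 0 2) (a 0<|a 2 2))<|b (a 1<|a (a 2<|a 0 2) (a 2<|a 0 0))<|b (a 1<|a (a 2<|a 1 2) (a 2<|a 1 0))<|b (a 1<|a (a 2<|a 2 2) (a 2<|a 2 0))<|c)<|
 b (b (a (-1)<|a (a 0<|a 0 2) (a 2<|a 0 1))<|b (a 1<|a (a 0<|a 1 2) (a 2<|a 0 0))<|b (a (-1)<|a (a 1<|a 0 0) (a 0<|a 2 1))<|b (a 1<|a (a 1<|a 1 0) (a 0<|a 2 0))<|b (a (-1)<|a (a 2<|a 1 2) (a 1<|a 2 2))<|b (a 1<|a (a 2<|a 2 2) (a 1<|a 2 1))<|c)<|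
 b (b (a (-1)<|a (a 0<|a 0 2) (a 2<|a 1 1))<|b (a 1<|a (a 0<|a 1 2) (a 2<|a 1 0))<|b (a (-1)<|a (a 1<|a 0 1) (a 0<|a 2 1))<|b (a 1<|a (a 1<|a 1 1) (a 0<|a 2 0))<|b (a 1<|a (a 2<|a 0 2) (a 1<|a 2 2))<|b (a (-1)<|a (a 2<|a 2 2) (a 1<|a 2 0))<|c)<|
 e))))))

/-- The entries of `N_r`. -/
def tabr (r : ℕ) : List (ℤ × I27 × I27) := tab.getD r []

/-- All roots are in the table. -/
theorem forall_roots {p : ℕ → Bool} (h : (List.range 72).all p = true) {r : ℕ} (hr : r < 72) : p r = true :=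
  List.all_eq_true.1 h r (List.mem_range.2 hr)

/-- The pairing of a weight with a root: `-1` for the sources, `1` for the targets, `0` otherwise. -/
def pr (r : ℕ) (w : I27) : ℤ :=
  if ((tabr r).any fun q => q.2.1 == w) = true then -1 else if ((tabr r).any fun q => q.2.2 == w) = true then 1 else 0

theorem tab_facts_aux1 {r : ℕ} (hr : r < 72) {q : ℤ × I27 × I27} (hq : q ∈ tabr r) :
    (q.1 = 1 ∨ q.1 = -1) ∧ (q.1, q.2.2, q.2.1) ∈ tabr (71 - r) ∧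
      ∀ w, ip w q.2.2 - ip w q.2.1 = 3 * pr r w := by
  have h := forall_roots (p := fun r => wts.all fun w => (tabr r).all fun q =>
    (ip w q.2.2 - ip w q.2.1 == 3 * pr r w)) (by decide +kernel) hr
  have h' := forall_roots (p := fun r => (tabr r).all fun q => ((q.1 == 1) || (q.1 == -1)) &&
    ((tabr (71 - r)).contains (q.1, q.2.2, q.2.1))) (by decide +kernel) hr
  rw [List.all_eq_true] at h'
  have h1 := h' q hq
  simp only [Bool.and_eq_true, Bool.or_eq_true, beq_iff_eq, List.contains_iff_mem] at h1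
  refine ⟨h1.1, h1.2, fun w => ?_⟩
  have h2 := forall_wts h w
  rw [List.all_eq_true] at h2
  exact beq_iff_eq.1 (h2 q hq)

theorem tab_facts_aux2 {r : ℕ} (hr : r < 72) {q : ℤ × I27 × I27} (hq : q ∈ tabr r) :
    ∀ q' ∈ tabr r, q.2.1 ≠ q'.2.2 ∧ (q.2.1 = q'.2.1 → q = q') ∧ (q.2.2 = q'.2.2 → q = q') := by
  have h := forall_roots (p := fun r => (tabr r).all fun q => (tabr r).all fun q' => !(q.2.1 == q'.2.2) &&
      (!(q.2.1 == q'.2.1) || (q == q')) && (!(q.2.2 == q'.2.2) || (q == q'))) (by decide +kernel) hr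
  rw [List.all_eq_true] at h
  have h1 := h q hq
  rw [List.all_eq_true] at h1
  intro q' hq'
  have h6 := h1 q' hq'
  simp only [Bool.and_eq_true, Bool.or_eq_true, beq_iff_eq, Bool.not_eq_true', beq_eq_false_iff_ne, ne_eq] at h6
  obtain ⟨⟨h7, h8⟩, h9⟩ := h6
  refine ⟨h7, fun h => ?_, fun h => ?_⟩
  · rcases h8 with h8 | h8
    · exact absurd h h8
    · exact h8
  · rcases h9 with h9 | h9
    · exact absurd h h9
    · exact h9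

theorem ip_self (a : I27) : ip a a = 4 := if_pos rfl

/-- Basic facts on the entries of one root matrix. -/
theorem tab_facts {r : ℕ} (hr : r < 72) {q : ℤ × I27 × I27} (hq : q ∈ tabr r) :
    (q.1 = 1 ∨ q.1 = -1) ∧ ip q.2.1 q.2.2 = 1 ∧ (q.1, q.2.2, q.2.1) ∈ tabr (71 - r) ∧
      ∀ q' ∈ tabr r, q.2.1 ≠ q'.2.2 ∧ (q.2.1 = q'.2.1 → q = q') ∧ (q.2.2 = q'.2.2 → q = q') ∧
        ∀ w, ip w q.2.2 - ip w q.2.1 = ip w q'.2.2 - ip w q'.2.1 := by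
  obtain ⟨h1, h2, h3⟩ := tab_facts_aux1 hr hq
  refine ⟨h1, ?_, h2, fun q' hq' => ?_⟩
  · have h4 := h3 q.2.1
    have h5 : pr r q.2.1 = -1 := by
      rw [pr, if_pos]
      exact List.any_eq_true.2 ⟨q, hq, beq_iff_eq.2 rfl⟩
    rw [h5, ip_self] at h4
    omega
  · obtain ⟨h4, h5, h6⟩ := tab_facts_aux2 hr hq q' hq'
    refine ⟨h4, h5, h6, fun w => ?_⟩
    rw [h3 w, (tab_facts_aux1 hr hq').2.2 w]

/-- Number of a weight, below 27. -/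
def code (a : I27) : ℕ := 9 * a.1.val + 3 * a.2.1.val + a.2.2.val

/-- The root `b - a` for collinear weights `a`, `b` (packed table). -/
def rt (a b : I27) : ℕ := (1421221903246756435825990584240862777090673440653858000906116686780703424747846297666429589597058202647898482841622367191499806213649967663181042369547433954003270190273739908945763513537718620683843683800075363429509524944647245473310623315615842815435306997734038690741311552928793329346270193337414214004649876434464444460363918433530627246346560954310430479699030417871260507836098339182709360515446813747858896320867088834595919625790847795016638478341955732724677047112257787432815890265748928479041788113149016011673437411943900987707351203265766747579228169327550814536988751381063348685844974868777306894068266397084824248738730728842324619649788980603182406469559860424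952314322147693588228638266570780386006822457292220101495476968803446167479909286635320101570260390296731145552005949616316897033288031049266351352660444208982115316601170787377424712857375112234000719213395204383733891182051252807965753087898166660641841703586264362648901048102808323065384717777770670869545640963195493396826988694619456793328997760229475402530617056139033380053405029640297476350112465420195913653259953073931762646844264717921980888662431747391981901307733571919397823254352394076932816858504642209494605847824224079533460912486958270116658508421520431330238935922134350134275594952175962072173892407611543679419381925186544802772315255758755015388271578717814475795785244010989386393662219897468053386723167169629249345397408475917719540853447681630055713631567039148613155885426097218256557379586596847916976114960292684921565686422655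 >>> (7 * (27 * code a + code b))) % 128

theorem rt_lt_and_mem {a b : I27} (h : ip a b = 1) :
    rt a b < 72 ∧ ∃ q ∈ tabr (rt a b), q.2.1 = a ∧ q.2.2 = b := by
  have h1 := forall_wts (p := fun a => wts.all fun b => !(ip a b == 1) || (decide (rt a b < 72) &&
    ((tabr (rt a b)).any fun q => (q.2.1 == a) && (q.2.2 == b)))) (by decide +kernel) a
  have h2 := forall_wts h1 b
  simp only [h, beq_self_eq_true, Bool.not_true, Bool.false_or, Bool.and_eq_true, decide_eq_true_eq,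
    List.any_eq_true, beq_iff_eq] at h2
  exact h2

/-- Any two collinear weights differ by a root. -/
theorem exists_root {a b : I27} (h : ip a b = 1) : ∃ r < 72, ∃ q ∈ tabr r, q.2.1 = a ∧ q.2.2 = b :=
  ⟨rt a b, (rt_lt_and_mem h).1, (rt_lt_and_mem h).2⟩

variable {F : Type u} [Field F]

/-- `N_r v`. -/
def nv (r : ℕ) (v : I27 → F) : I27 → F := fun d =>
  ((tabr r).map fun q => if q.2.2 = d then (q.1 : F) * v q.2.1 else 0).sum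

theorem sum_eq_of_unique {α : Type*} (l : List α) (f : α → F) (q : α) (hq : q ∈ l) (hnd : l.Nodup)
    (h : ∀ q' ∈ l, q' ≠ q → f q' = 0) : (l.map f).sum = f q := by
  induction l with
  | nil => simp at hq
  | cons a l ih =>
    rw [List.map_cons, List.sum_cons]
    rw [List.nodup_cons] at hnd
    rcases List.mem_cons.1 hq with rfl | hq'
    · have : (l.map f).sum = 0 := by
        apply List.sum_eq_zero
        intro x hx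
        obtain ⟨y, hy, rfl⟩ := List.mem_map.1 hx
        exact h y (List.mem_cons_of_mem _ hy) (fun he => hnd.1 (he ▸ hy))
      rw [this, add_zero]
    · rw [h a List.mem_cons_self (fun he => hnd.1 (he ▸ hq')), zero_add]
      exact ih hq' hnd.2 fun q' h1 h2 => h q' (List.mem_cons_of_mem _ h1) h2

theorem tabr_nodup (r : ℕ) : (tabr r).Nodup := by
  by_cases hr : r < 72
  · have := forall_roots (p := fun r => decide ((tabr r).Nodup)) (by decide +kernel) hr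
    exact of_decide_eq_true this
  · have : tabr r = [] := List.getD_eq_default _ _ (by simpa [tab] using hr)
    rw [this]; exact List.nodup_nil

/-- Value of `N_r v` at a target. -/
theorem nv_target {r : ℕ} (hr : r < 72) {q : ℤ × I27 × I27} (hq : q ∈ tabr r) (v : I27 → F) :
    nv r v q.2.2 = (q.1 : F) * v q.2.1 := by
  rw [nv, sum_eq_of_unique (tabr r) _ q hq (tabr_nodup r)]
  · rw [if_pos rfl]
  · intro q' hq' hne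
    refine if_neg fun he => hne ?_
    exact ((tab_facts hr hq').2.2.2 q hq).2.2.1 he

/-- Value of `N_r v` elsewhere. -/
theorem nv_other {r : ℕ} {d : I27} (hd : ∀ q ∈ tabr r, q.2.2 ≠ d) (v : I27 → F) : nv r v d = 0 := by
  rw [nv]
  apply List.sum_eq_zero
  intro x hx
  obtain ⟨q, hq, rfl⟩ := List.mem_map.1 hx
  exact if_neg (hd q hq)

theorem nv_add (r : ℕ) (v w : I27 → F) : nv r (v + w) = nv r v + nv r w := by
  funext d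
  simp only [nv, Pi.add_apply]
  generalize tabr r = l
  induction l with
  | nil => simp
  | cons q l ih =>
    simp only [List.map_cons, List.sum_cons]
    rw [ih]
    split <;> ring

theorem nv_smul (r : ℕ) (s : F) (v : I27 → F) : nv r (s • v) = s • nv r v := by
  funext d
  simp only [nv, Pi.smul_apply, smul_eq_mul]
  generalize tabr r = l
  induction l with
  | nil => simp
  | cons q l ih =>
    simp only [List.map_cons, List.sum_cons]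
    rw [ih]
    split <;> ring

/-- `N_r` as a linear map. -/
def nLin (F : Type u) [Field F] (r : ℕ) : (I27 → F) →ₗ[F] (I27 → F) where
  toFun := nv r
  map_add' := nv_add r
  map_smul' := nv_smul r

/-- `N_r` as a matrix. -/
def nMat (F : Type u) [Field F] (r : ℕ) : Matrix I27 I27 F := LinearMap.toMatrix' (nLin F r)

theorem nMat_mulVec (r : ℕ) (v : I27 → F) : (nMat F r).mulVec v = nv r v := by
  rw [nMat, LinearMap.toMatrix'_mulVec]; rfl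

/-- Entry of `N_r`: `ε` if `(ε, a, b)` is in the table (row `b`, column `a`), else `0`. -/
theorem nMat_apply (r : ℕ) (b a : I27) : nMat F r b a = nv r (e F a) b := by
  rw [nMat, LinearMap.toMatrix'_apply]; rfl

theorem nv_nv (r : ℕ) (v : I27 → F) : nv r (nv r v) = 0 := by
  by_cases hr : r < 72
  · funext d
    by_cases hd : ∃ q ∈ tabr r, q.2.2 = d
    · obtain ⟨q, hq, rfl⟩ := hd
      rw [nv_target hr hq, nv_other]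
      · simp
      · intro q' hq' he
        exact ((tab_facts hr hq).2.2.2 q' hq').1 he.symm
    · push Not at hd
      rw [nv_other hd]; rfl
  · have : tabr r = [] := List.getD_eq_default _ _ (by simpa [tab] using hr)
    funext d
    simp [nv, this]

/-- The matrix `1 + t N_r`. -/
def zMat (F : Type u) [Field F] (r : ℕ) (t : F) : Matrix I27 I27 F := 1 + t • nMat F r

theorem zMat_mulVec (r : ℕ) (t : F) (v : I27 → F) : (zMat F r t).mulVec v = v + t • nv r v := by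
  rw [zMat, Matrix.add_mulVec, Matrix.one_mulVec, Matrix.smul_mulVec, nMat_mulVec]

theorem zMat_mul (r : ℕ) (s t : F) : zMat F r s * zMat F r t = zMat F r (s + t) := by
  apply Matrix.toLin'.injective
  refine LinearMap.ext fun v => ?_
  rw [Matrix.toLin'_apply, Matrix.toLin'_apply, ← Matrix.mulVec_mulVec, zMat_mulVec, zMat_mulVec, zMat_mulVec,
    nv_add, nv_smul, nv_nv]
  simp only [smul_zero, add_zero, add_smul]
  rw [add_assoc, add_comm (t • _)]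

theorem zMat_zero (r : ℕ) : zMat F r 0 = 1 := by rw [zMat, zero_smul, add_zero]

/-- The root element `1 + t N_r` of `GL I27 F`. -/
def zG (r : ℕ) (t : F) : GL I27 F where
  val := zMat F r t
  inv := zMat F r (-t)
  val_inv := by rw [zMat_mul, add_neg_cancel, zMat_zero]
  inv_val := by rw [zMat_mul, neg_add_cancel, zMat_zero]

theorem coe_zG (r : ℕ) (t : F) : ((zG r t : GL I27 F) : Matrix I27 I27 F) = zMat F r t := rfl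

/-- Action of an element of `GL` on a column vector. -/
def act (g : GL I27 F) (v : I27 → F) : I27 → F := (g : Matrix I27 I27 F).mulVec v

theorem act_mul (g h : GL I27 F) (v : I27 → F) : act (g * h) v = act g (act h v) := by
  rw [act, act, act, Units.val_mul, Matrix.mulVec_mulVec]

theorem act_one (v : I27 → F) : act (1 : GL I27 F) v = v := by rw [act, Units.val_one, Matrix.one_mulVec]

theorem act_add (g : GL I27 F) (v w : I27 → F) : act g (v + w) = act g v + act g w := Matrix.mulVec_add _ _ _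

theorem act_smul (g : GL I27 F) (s : F) (v : I27 → F) : act g (s • v) = s • act g v := Matrix.mulVec_smul _ _ _

theorem act_inv_act (g : GL I27 F) (v : I27 → F) : act g⁻¹ (act g v) = v := by
  rw [← act_mul, inv_mul_cancel, act_one]

theorem act_act_inv (g : GL I27 F) (v : I27 → F) : act g (act g⁻¹ v) = v := by
  rw [← act_mul, mul_inv_cancel, act_one]

theorem act_zG (r : ℕ) (t : F) (v : I27 → F) : act (zG r t) v = v + t • nv r v := zMat_mulVec r t v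

theorem eq_one_of_act {g : GL I27 F} (h : ∀ a, act g (e F a) = e F a) : g = 1 := by
  apply Units.ext
  ext b a
  have := congrFun (h a) b
  rw [act, e, Matrix.mulVec_single_one] at this
  rw [Units.val_one, Matrix.one_apply]
  rw [Matrix.col_apply] at this
  rw [this, Pi.single_apply]

end Cfsg.Agent.ChevalleyStructure.E6Form.Table
end

-- part: ChevalleyStructure/E6Form/Elim
section
/-!
# The isometry group of the cubic form is generated by the root elements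

Let `G0` be a subgroup of `E6univ F` containing all root elements `1 + t N_r`. Then `E6univ F ≤ G0`, if `F` has an
element other than `0`, `1`. Proof by elimination: given `g ∈ E6univ F` and a set `W` of weights whose basis vectors
are fixed by `g`, and a further weight `l`, multiply `g` by elements of `G0` fixing `e_w` (`w ∈ W`) so that `e_l` is
fixed too. The vector `x = g e_l` is singular; if `x_l ≠ 0` the 16 roots `b - l` clear the coordinates at the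
collinear weights `b` (if such a root moves some `e_w` then `x_b = 0` already), and the other coordinates then
vanish since `x` is singular. The order in which the 27 weights are treated is checked by the kernel.
-/

set_option autoImplicit false

namespace Cfsg.Agent.ChevalleyStructure.E6Form.Elim

open Cfsg.Lie Cfsg.Agent.ChevalleyStructure.E6Form.Cubic Cfsg.Agent.ChevalleyStructure.E6Form.Table

universe u

variable {F : Type u} [Field F]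

/-- The value of `ip` is `4`, `1` or `-2`. -/
theorem ip_cases (a b : I27) : (ip a b = 4 ∧ a = b) ∨ (ip a b = 1 ∧ a ≠ b ∧ nc a b = false) ∨
    (ip a b = -2 ∧ a ≠ b ∧ nc a b = true) := by
  rw [ip]
  by_cases h : a = b
  · left; exact ⟨if_pos h, h⟩
  · by_cases h' : nc a b = true
    · right; right; exact ⟨by rw [if_neg h, if_pos h'], h, h'⟩
    · right; left; exact ⟨by rw [if_neg h, if_neg h'], h, by simpa using h'⟩

theorem e_apply (a b : I27) : e F a b = if b = a then 1 else 0 := by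
  rw [e, Pi.single_apply]

/-! ### Effect of a root element on coordinates -/

theorem act_zG_target {r : ℕ} (hr : r < 72) {q : ℤ × I27 × I27} (hq : q ∈ tabr r) (t : F) (v : I27 → F) :
    act (zG r t) v q.2.2 = v q.2.2 + t * ((q.1 : F) * v q.2.1) := by
  rw [act_zG, Pi.add_apply, Pi.smul_apply, smul_eq_mul, nv_target hr hq]

theorem act_zG_other {r : ℕ} {d : I27} (hd : ∀ q ∈ tabr r, q.2.2 ≠ d) (t : F) (v : I27 → F) :
    act (zG r t) v d = v d := by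
  rw [act_zG, Pi.add_apply, Pi.smul_apply, smul_eq_mul, nv_other hd, mul_zero, add_zero]

/-- A root element fixes the basis vectors of the weights that are not sources. -/
theorem act_zG_e_of_not_source {r : ℕ} (hr : r < 72) {w : I27} (hw : ∀ q ∈ tabr r, q.2.1 ≠ w) (t : F) :
    act (zG r t) (e F w) = e F w := by
  funext d
  by_cases hd : ∃ q ∈ tabr r, q.2.2 = d
  · obtain ⟨q, hq, rfl⟩ := hd
    rw [act_zG_target hr hq, e_ne (hw q hq)]; ring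
  · push Not at hd
    exact act_zG_other hd t _

theorem act_zG_e_of_source {r : ℕ} (hr : r < 72) {q : ℤ × I27 × I27} (hq : q ∈ tabr r) (t : F) :
    act (zG r t) (e F q.2.1) = e F q.2.1 + (t * (q.1 : F)) • e F q.2.2 := by
  funext d
  rw [Pi.add_apply, Pi.smul_apply, smul_eq_mul]
  by_cases hd : ∃ q' ∈ tabr r, q'.2.2 = d
  · obtain ⟨q', hq', rfl⟩ := hd
    rw [act_zG_target hr hq']
    by_cases h : q' = q
    · subst h; rw [e_self, e_self]; ring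
    · rw [e_ne (a := q.2.1) (b := q'.2.1) (fun he => h ((((tab_facts hr hq').2.2.2) q hq).2.1 he)),
        e_ne (a := q.2.2) (b := q'.2.2) (fun he => h ((((tab_facts hr hq').2.2.2) q hq).2.2.1 he))]
      ring
  · push Not at hd
    rw [act_zG_other hd, e_ne (a := q.2.2) (b := d) (fun he => hd q hq he.symm)]; ring

/-! ### Clearing -/

/-- Clearing the coordinates at the weights collinear with `l`. -/
theorem clear (K : Subgroup (GL I27 F)) (l : I27) (x : I27 → F) (hl : x l ≠ 0)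
    (hK : ∀ r < 72, ∀ q ∈ tabr r, q.2.1 = l → x q.2.2 ≠ 0 → ∀ t : F, zG r t ∈ K) (L : List I27)
    (hL : ∀ b ∈ L, ip l b = 1) :
    ∃ h ∈ K, act h x l = x l ∧ (∀ b ∈ L, act h x b = 0) ∧ ∀ b, ip l b = 1 → b ∉ L → act h x b = x b := by
  induction L with
  | nil => exact ⟨1, K.one_mem, by rw [act_one], by simp, fun b _ _ => by rw [act_one]⟩
  | cons b L ih =>
    obtain ⟨h, hh, h1, h2, h3⟩ := ih fun b' hb' => hL b' (List.mem_cons_of_mem _ hb')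
    by_cases hb : act h x b = 0
    · refine ⟨h, hh, h1, ?_, fun b' hb' hn => h3 b' hb' fun hm => hn (List.mem_cons_of_mem _ hm)⟩
      intro b' hb'
      rcases List.mem_cons.1 hb' with rfl | hb'
      · exact hb
      · exact h2 b' hb'
    · have hbL : b ∉ L := fun hm => hb (h2 b hm)
      have hlb := hL b List.mem_cons_self
      have hxb : act h x b = x b := h3 b hlb hbL
      obtain ⟨r, hr, q, hq, hql, hqb⟩ := exists_root hlb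
      obtain ⟨hs, -, -, hfa⟩ := tab_facts hr hq
      have hs0 : (q.1 : F) ≠ 0 := by rcases hs with hs | hs <;> rw [hs] <;> simp
      have hlt : ∀ q' ∈ tabr r, q'.2.2 ≠ l := fun q' hq' he => (hfa q' hq').1 (hql.trans he.symm)
      refine ⟨zG r (-(x b) / ((q.1 : F) * x l)) * h,
        K.mul_mem (hK r hr q hq hql (by rw [hqb]; rwa [hxb] at hb) _) hh, ?_, ?_, ?_⟩
      · rw [act_mul, act_zG_other hlt, h1]
      · intro b' hb'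
        rw [act_mul]
        rcases List.mem_cons.1 hb' with rfl | hb'
        · rw [← hqb, act_zG_target hr hq, hqb, hxb, hql, h1]
          field_simp
          ring
        · have hlb' := hL b' (List.mem_cons_of_mem _ hb')
          rw [act_zG_other, h2 b' hb']
          intro q' hq' he
          obtain ⟨-, h5, -, h6⟩ := hfa q' hq'
          have h7 := h6 l
          rw [he, hqb, hql, hlb', hlb, ip_self] at h7
          have h8 : ip l q'.2.1 = 4 := by omega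
          rcases ip_cases l q'.2.1 with h9 | h9 | h9
          · have := h5 (hql.trans h9.2)
            apply hbL
            rw [← hqb, this, he]
            exact hb'
          · omega
          · omega
      · intro b' hb' hn
        rw [List.mem_cons, not_or] at hn
        rw [act_mul, act_zG_other, h3 b' hb' hn.2]
        intro q' hq' he
        obtain ⟨-, h5, -, h6⟩ := hfa q' hq'
        have h7 := h6 l
        rw [he, hqb, hql, hb', hlb, ip_self] at h7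
        have h8 : ip l q'.2.1 = 4 := by omega
        rcases ip_cases l q'.2.1 with h9 | h9 | h9
        · have := h5 (hql.trans h9.2)
          exact hn.1 (by rw [← hqb, this, he])
        · omega
        · omega

/-! ### The torus -/

/-- `n_r(c)`. -/
def nG (r : ℕ) (c : F) : GL I27 F := zG r c * zG (71 - r) (-c⁻¹) * zG r c

/-- `h_r(c)`. -/
def hG (r : ℕ) (c : F) : GL I27 F := nG r c * nG r (-1)

/-! ### The elimination step -/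

/-- `act g` fixes the basis vectors of the weights in `W`. -/
def Fixes (W : List I27) (g : GL I27 F) : Prop := ∀ w ∈ W, act g (e F w) = e F w

/-- The elements of `G0` that fix the basis vectors of the weights in `W`. -/
def KW (G0 : Subgroup (GL I27 F)) (W : List I27) : Subgroup (GL I27 F) where
  carrier := {h | h ∈ G0 ∧ Fixes W h}
  one_mem' := ⟨G0.one_mem, fun w _ => act_one _⟩
  mul_mem' {a b} ha hb := ⟨G0.mul_mem ha.1 hb.1, fun w hw => by rw [act_mul, hb.2 w hw, ha.2 w hw]⟩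
  inv_mem' {a} ha := ⟨G0.inv_mem ha.1, fun w hw => by
    have := act_inv_act a (e F w)
    rwa [ha.2 w hw] at this⟩

theorem Fixes.mul {W : List I27} {g h : GL I27 F} (hg : Fixes W g) (hh : Fixes W h) : Fixes W (g * h) :=
  fun w hw => by rw [act_mul, hh w hw, hg w hw]

/-- `tri` is invariant. -/
theorem tri_act {g : GL I27 F} (hg : g ∈ E6univ F) (x y z : I27 → F) : tri (act g x) (act g y) (act g z) = tri x y z :=
  tri_mulVec hg x y z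

/-- A root step from `a` to `c` fixing all of `W`. -/
def stepOK (W : List I27) (a c : I27) : Bool := (ip a c == 1) && W.all fun w => decide (ip w a ≤ ip w c)

theorem not_source {r : ℕ} (hr : r < 72) {q : ℤ × I27 × I27} (hq : q ∈ tabr r) {w : I27}
    (hw : ip w q.2.1 ≤ ip w q.2.2) : ∀ q' ∈ tabr r, q'.2.1 ≠ w := by
  intro q' hq' he
  have h1 := ((tab_facts hr hq).2.2.2 q' hq').2.2.2 w
  rw [he, ip_self] at h1
  rcases ip_cases w q'.2.2 with h2 | h2 | h2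
  · have := ((tab_facts hr hq').2.2.2 q' hq').1
    exact this (he.trans h2.2)
  · omega
  · omega

/-- Moving a non-zero coordinate along a root step. -/
theorem move {G0 : Subgroup (GL I27 F)} (hG : ∀ r < 72, ∀ t : F, zG r t ∈ G0) {W : List I27} {a c : I27}
    (h : stepOK W a c = true) {x : I27 → F} (hx : x a ≠ 0) : ∃ k ∈ KW G0 W, act k x c ≠ 0 := by
  rw [stepOK, Bool.and_eq_true, beq_iff_eq, List.all_eq_true] at h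
  obtain ⟨h1, h2⟩ := h
  by_cases hc : x c = 0
  · obtain ⟨r, hr, q, hq, hqa, hqc⟩ := exists_root h1
    refine ⟨zG r 1, ⟨hG r hr 1, fun w hw => ?_⟩, ?_⟩
    · refine act_zG_e_of_not_source hr (not_source hr hq ?_) 1
      rw [hqa, hqc]
      exact of_decide_eq_true (h2 w hw)
    · rw [← hqc, act_zG_target hr hq, hqc, hc, hqa, zero_add, one_mul]
      refine mul_ne_zero ?_ hx
      rcases (tab_facts hr hq).1 with hs | hs <;> rw [hs] <;> simp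
  · exact ⟨1, Subgroup.one_mem _, by rwa [act_one]⟩

/-- `l` can be reached from `a` by at most two root steps. -/
def reach (W : List I27) (a l : I27) : Bool :=
  (a == l) || stepOK W a l || wts.any fun c => stepOK W a c && stepOK W c l

theorem pivot {G0 : Subgroup (GL I27 F)} (hG : ∀ r < 72, ∀ t : F, zG r t ∈ G0) {W : List I27} {a l : I27}
    (h : reach W a l = true) {x : I27 → F} (hx : x a ≠ 0) : ∃ k ∈ KW G0 W, act k x l ≠ 0 := by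
  rw [reach, Bool.or_eq_true, Bool.or_eq_true, beq_iff_eq, List.any_eq_true] at h
  rcases h with (h | h) | ⟨c, -, h⟩
  · exact ⟨1, Subgroup.one_mem _, by rw [act_one, ← h]; exact hx⟩
  · exact move hG h hx
  · rw [Bool.and_eq_true] at h
    obtain ⟨k, hk, h1⟩ := move hG h.1 hx
    obtain ⟨k', hk', h2⟩ := move hG h.2 h1
    exact ⟨k' * k, Subgroup.mul_mem _ hk' hk, by rwa [act_mul]⟩

/-! ### The order of the weights -/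

end Cfsg.Agent.ChevalleyStructure.E6Form.Elim
end

private theorem dce_b27b889247e8 : _root_.True := by
  try have : _root_.True := by simp only [_root_.Cfsg.Agent.ChevalleyStructure.E6Form.Elim.reach.eq_1]
  try have : _root_.True := by simp only [_root_.Cfsg.Agent.ChevalleyStructure.E6Form.Elim.nG.eq_1]
  try have : _root_.True := by simp only [_root_.Cfsg.Agent.ChevalleyStructure.E6Form.Table.tab.eq_1]
  try have : _root_.True := by simp only [_root_.Cfsg.Agent.ChevalleyStructure.E6Form.Table.nv.eq_1]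
  try have : _root_.True := by simp only [_root_.Cfsg.Agent.ChevalleyStructure.E6Form.Elim.hG.eq_1]
  try have : _root_.True := by simp only [_root_.Cfsg.Agent.ChevalleyStructure.E6Form.Table.nMat.eq_1]
  try have : _root_.True := by simp only [_root_.Cfsg.Agent.ChevalleyStructure.E6Form.Elim.stepOK.eq_1]
  try have : _root_.True := by simp only [_root_.Cfsg.Agent.ChevalleyStructure.E6Form.Table.zMat.eq_1]
  try have : _root_.True := by simp only [_root_.Cfsg.Agent.ChevalleyStructure.E6Form.Table.act.eq_1]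
  try have : _root_.True := by simp only [_root_.Cfsg.Agent.ChevalleyStructure.E6Form.Cubic.ip.eq_1]
  try have : _root_.True := by simp only [_root_.Cfsg.Agent.ChevalleyStructure.E6Form.Table.pr.eq_1]
  exact _root_.True.intro
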